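import Cfsg.Agent.H99.J4U.Wire
import Cfsg.Agent.H48.J4U.HexInst
import Cfsg.Agent.H56.J4U.Transport
import Cfsg.Agent.H93.J4U.Hexad

/-!
A simple group of Janko-four type is isomorphic to the presented group J4.
-/

set_option autoImplicit false
set_option linter.style.haveILetI false

namespace Cfsg.Agent.H99.J4U

open Cfsg Subgroup H93.J4U

universe u

variable {G : Type u} [Group G] [Finite G]

/-- The conjugate of `V` at the sextet `698` of a good complement. -/
theorem hexBase_of_good (D : Uni G) (hg : D.Good) : H56.J4U.HexBase D := by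
  obtain ⟨g, h1, h2, h3, h4⟩ := D.exists_hex_a hg
  exact ⟨g, h1, h2, fun T hT => h3 _ (D.group_core hT), h4⟩

/-- **Uniqueness of the groups of Janko-four type.** -/
theorem isoJ4 [IsSimpleGroup G] (hG : ¬ IsMulCommutative G) {z : G}
    (hJ : Cfsg.IsOfJankoFourTypeAt z) : Cfsg.Spor.IsoJ4 G := by
  obtain ⟨D, rfl, hg⟩ := exists_good hG hJ
  have hb := hexBase_of_good D hg
  have hU : H48.J4U.HexHyp D.V D.F D.φ := by
    refine H48.J4U.hexHyp_of_698 D ?_
    obtain ⟨g, -, h2, h3, -⟩ := hb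
    exact ⟨g, h2, h3⟩
  obtain ⟨t, ht⟩ := H48.J4U.exists_trioInv_uni D hg hU
  exact H69.J4U.isoJ4_of_rels hG hJ _ _ t ht.isT.ne_one fun r hr =>
    rels_of_relTwo D hg hU ht (H56.J4U.relTwo_of_base hg hU ht hb) hr

/-- The order of a group of Janko-four type. -/
theorem card_eq [IsSimpleGroup G] (hG : ¬ IsMulCommutative G) {z : G}
    (hJ : Cfsg.IsOfJankoFourTypeAt z) : Nat.card G = 86775571046077562880 :=
  H69.J4U.card_of_iso (isoJ4 hG hJ)

end Cfsg.Agent.H99.J4U
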