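import Cfsg.Agent.H56.J4U.RelTwoData

/-!
Tables for one line of trios: the base trio and the trios `uaK`, `ucK`, with common sextet `1463`.
-/

set_option autoImplicit false

namespace Cfsg.Agent.H99.J4U

/-- an element of order three fixing the three trios, with six fixed points -/
def lT : ℕ := 110646263137139846628823253072849185
/-- an involution fixing the three trios, commuting with `lT` and `cT` -/
def sT1 : ℕ := 800126781124227010572211399043465248
/-- a second involution without fixed points in the group of the sextet -/
def cT : ℕ := 88553648337150184252033534892727604
/-- moves the pair for `698` to a pair with `uT` -/
def eA : ℕ := 505844049821515698876825826706791906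
/-- moves the pair for `698` to a second pair with `uT` -/
def eB : ℕ := 689655632235253204913709258190882471
/-- moves the base trio to itself -/
def p0 : ℕ := 196301126924770165708125766871419048
/-- moves the base trio to `uaK` -/
def p1 : ℕ := 316325937710930988106904184729704459
/-- moves the base trio to `ucK` -/
def p2 : ℕ := 480657125847423687941405894453495061
/-- moves the line to the trios of the eleventh relator -/
def mR : ℕ := 98980201867194608600911388621915366
/-- moves the line to `u0K`, `u2K`, `u3K` -/
def mB : ℕ := 475469599308107650130641299343639714
/-- moves the line to `u0K`, `uaK`, `udK` -/
def mD : ℕ := 553478453942655005397590344006195570
/-- moves the line to a line through the base trio and `u0K` -/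
def mM : ℕ := 653107756900790986116648267654912457
/-- inverse of the conjugating word of the eleventh relator -/
def vT : ℕ := 417424050160622712449550278209051283
/-- the chosen involution of the sextet `1463` -/
def uT : ℕ := 420871937280519645355379355080342529
/-- an involution with eight fixed points in the group of the sextet -/
def hA : ℕ := 984793912696139992392315142351882889
/-- a second involution with eight fixed points in the group of the sextet -/
def hB : ℕ := 652511117969576917101514771623454752

end Cfsg.Agent.H99.J4U
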