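import Cfsg.Agent.H99.J4U.Align
import Cfsg.Agent.H99.J4U.RelOneData
import Cfsg.Agent.H48.J4U.Uni
import Cfsg.Agent.H48.J4U.Cen
import Cfsg.Agent.H56.J4U.RelTwo

/-!
Three trios with a common octad and a common sextet: the involution of one is the product of the other two.
With this, the eleventh relator of the presentation holds.
-/

set_option autoImplicit false
set_option maxRecDepth 100000
set_option linter.style.haveILetI false

namespace Cfsg.Agent.H99.J4U

open Cfsg Cfsg.Agent.Golay Subgroup H38.JFour H93.J4U H56.J4 H56.J4U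
open H56.J4.Up (k0)
open H48.J4U (uList zList tPerm HexHyp IsTrioInv gen_facts)

universe u

/-- The kernel's test that two words of tables agree. -/
def wordEq (l l' : List ℕ) : Bool := (List.range 24).all fun i => wordApp l i == wordApp l' i

theorem el_tPerm {T : ℕ} (h : inM24 T = true) : tPerm T h = el T :=
  Subtype.ext (el_coe (val_of h)).symm

theorem app_eq_of_el {A B : ℕ} (hA : Val A) (hB : Val B) (h : el A = el B) {i : ℕ} (hi : i < 24) :
    app A i = app B i := by
  have e := congrArg (fun m : M24 => (m : Equiv.Perm GolayPt) (pt i)) h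
  simp only [el_coe hA, el_coe hB, mkPerm_pt hA.1 hi, mkPerm_pt hB.1 hi] at e
  exact (pt_inj ((validT_bijective hA.1).2 i hi) ((validT_bijective hB.1).2 i hi)).1 e

/-- An element squaring to one, moving every point. -/
theorem free_el {T : ℕ} (hT : Val T) (h : (List.range 24).all (fun i => !(app T i == i)) = true)
    (h2 : wordEq [T, T] [] = true) :
    el T * el T = 1 ∧ ∀ p, (el T : Equiv.Perm GolayPt) p ≠ p := by
  refine ⟨?_, fun p e => ?_⟩
  · have := el_word (l := [T, T]) (l' := []) (by simp [hT]) (by simp) h2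
    simpa using this
  · simp only [List.all_eq_true, List.mem_range, Bool.not_eq_true', beq_eq_false_iff_ne] at h
    refine h (idx p) (idx_lt p) ?_
    rw [← idx_mkPerm hT.1, ← el_coe hT, e]

/-- `A * B = C * A` for three tables. -/
theorem el_comm {A B C : ℕ} (hA : Val A) (hB : Val B) (hC : Val C) (h : wordEq [A, B] [C, A] = true) :
    el A * el B = el C * el A := by
  have := el_word (l := [A, B]) (l' := [C, A]) (by simp [hA, hB]) (by simp [hA, hC]) h
  simpa using this

variable {G : Type u} [Group G] [Finite G] (D : Uni G)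

theorem VC_comm {g a b : G} (ha : a ∈ D.VC g) (hb : b ∈ D.VC g) : Commute a b := by
  calc a * b = g * ((g⁻¹ * a * g) * (g⁻¹ * b * g)) * g⁻¹ := by group
    _ = g * ((g⁻¹ * b * g) * (g⁻¹ * a * g)) * g⁻¹ := by rw [D.h.V_comm (D.mem_VC.1 ha) (D.mem_VC.1 hb)]
    _ = b * a := by group

theorem conj_VC {g a : G} (x : G) (ha : a ∈ D.VC g) : x * a * x⁻¹ ∈ D.VC (x * g) := by
  rw [D.mem_VC, show (x * g)⁻¹ * (x * a * x⁻¹) * (x * g) = g⁻¹ * a * g by group]
  exact D.mem_VC.1 ha

theorem conj_el {A B C : ℕ} (hA : Val A) (hB : Val B) (hC : Val C) (h : wordEq [A, B] [C, A] = true) :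
    D.φ (el A) * D.φ (el B) * (D.φ (el A))⁻¹ = D.φ (el C) := by
  rw [← map_mul, el_comm hA hB hC h, map_mul, mul_inv_cancel_right]

variable (hgood : ∀ σ : ↥Cfsg.M24, σ * σ = 1 → (∀ p, (σ : Equiv.Perm GolayPt) p ≠ p) →
  ¬ IsConj D.z (D.φ σ))
variable (hU : HexHyp D.V D.F D.φ) {t : G} (ht : IsTrioInv D.z D.V D.F D.φ t)

include hgood in
theorem TT_free {T : ℕ} (hT : Val T) (h : (List.range 24).all (fun i => !(app T i == i)) = true)
    (h2 : wordEq [T, T] [] = true) : D.TT (D.φ (el T)) := by
  obtain ⟨e, f⟩ := free_el hT h h2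
  refine ⟨by rw [← map_mul, e, map_one], fun e1 => ?_, hgood _ e f⟩
  rw [← map_one D.φ] at e1
  exact f (pt 0) (by rw [D.φ_injective e1]; rfl)

include ht in
theorem cen_t : Cen D.φ t S0 := H48.J4U.cen_base ht.isT.sq ht.stab

include hU ht in
/-- The involution of a moved trio lies in each conjugate of `V` with a moved chosen involution. -/
theorem mem_U {q : ℕ × ℕ} (hq : q ∈ uList) {T w : ℕ} (hT : Val T) (hw : Val w)
    (h : wordEq [T, q.2] [w, T] = true) {g : G} (hg : D.φ (el w) ∈ D.VC g)
    (hTT : D.TT (D.φ (el w))) : tK D.φ t S0 (imgK T k0) ∈ D.VC g := by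
  obtain ⟨g0, -, hu, -⟩ := hU q hq
  have htm : t ∈ D.VC g0 := ht.mem q hq g0 hu
  rw [el_tPerm] at hu
  have hu' : D.φ (el q.2) ∈ D.VC g0 := hu
  have h1 := conj_VC D (D.φ (el T)) hu'
  rw [conj_el D hT (val_of (gen_facts.2.2.2.1 q hq)) hw h] at h1
  rw [D.VC_unique hg h1 hTT, ← tK_el (cen_t D ht) hT k0, tK_base (cen_t D ht)]
  exact conj_VC D _ htm

include ht in
theorem commute_tK_F {T z : ℕ} (hT : Val T) (hz : z ∈ zList) :
    Commute (tK D.φ t S0 (imgK T k0)) (D.F (img T z)) := by
  have hev : ∀ a ∈ zList, ev a = true := by decide +kernel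
  rw [← tK_el (cen_t D ht) hT k0, tK_base (cen_t D ht),
    ← (D.conj_F (el T) hT.1 (el_coe hT).symm (hev z hz)).2]
  show _ * _ = _ * _
  exact conj_commute (ht.sext z hz).eq

include ht in
theorem not_commute_tK_F {T z : ℕ} (hT : Val T) (hev : ev z = true) (h0 : z ≠ 0) (hz : z ∉ zList) :
    ¬ Commute (tK D.φ t S0 (imgK T k0)) (D.F (img T z)) := by
  intro hc
  rw [← tK_el (cen_t D ht) hT k0, tK_base (cen_t D ht),
    ← (D.conj_F (el T) hT.1 (el_coe hT).symm hev).2] at hc
  have hc' : Commute t (D.F z) := by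
    have := conj_commute (y := (D.φ (el T))⁻¹) hc.eq
    simpa [Commute, SemiconjBy, mul_assoc] using this
  exact (ht.centV z hev hc').elim h0 hz

theorem val_l : Val lT := val_of (by decide +kernel)
theorem val_s1 : Val sT1 := val_of (by decide +kernel)
theorem val_c : Val cT := val_of (by decide +kernel)
theorem val_u : Val uT := val_of (by decide +kernel)
theorem val_hA : Val hA := val_of (by decide +kernel)
theorem val_hB : Val hB := val_of (by decide +kernel)
theorem val_eA : Val eA := val_of (by decide +kernel)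
theorem val_eB : Val eB := val_of (by decide +kernel)
theorem val_p0 : Val p0 := val_of (by decide +kernel)
theorem val_p1 : Val p1 := val_of (by decide +kernel)
theorem val_p2 : Val p2 := val_of (by decide +kernel)
theorem val_vT : Val vT := val_of (by decide +kernel)

include hgood in
theorem TT_u : D.TT (D.φ (el uT)) := TT_free D hgood val_u (by decide +kernel) (by decide +kernel)

include hgood in
theorem TT_c : D.TT (D.φ (el cT)) := TT_free D hgood val_c (by decide +kernel) (by decide +kernel)

include hgood hU in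
/-- The conjugate of `V` of the sextet `1463`. -/
theorem exists_U : ∃ g : G, D.F 1463 ∈ D.VC g ∧ D.φ (el uT) ∈ D.VC g ∧ D.φ (el cT) ∈ D.VC g := by
  obtain ⟨g, hF, hu, -⟩ := hU (1463, uT) (by decide +kernel)
  obtain ⟨g0, -, hu0, he⟩ := hU (698, 303934666482472510870088253164633089) (by decide +kernel)
  have he' := he rfl
  rw [el_tPerm] at hu hu0 he'
  change D.φ (el uT) ∈ D.VC g at hu
  change D.φ (el 303934666482472510870088253164633089) ∈ D.VC g0 at hu0
  change D.φ (el H48.J4U.eT) ∈ D.VC g0 at he'
  have hv0 : Val 303934666482472510870088253164633089 := val_of (by decide +kernel)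
  have hve : Val H48.J4U.eT := val_of (by decide +kernel)
  have key : ∀ T H, Val T → Val H →
      wordEq [T, 303934666482472510870088253164633089] [uT, T] = true →
      wordEq [T, H48.J4U.eT] [H, T] = true → D.φ (el H) ∈ D.VC g := by
    intro T H hT hH h1 h2
    have a1 := conj_VC D (D.φ (el T)) hu0
    have a2 := conj_VC D (D.φ (el T)) he'
    rw [conj_el D hT hv0 val_u h1] at a1
    rw [conj_el D hT hve hH h2] at a2
    rwa [D.VC_unique hu a1 (TT_u D hgood)]
  refine ⟨g, hF, hu, ?_⟩
  have hw := el_word (l := [uT, hA, hB]) (l' := [cT]) (by simp [val_u, val_hA, val_hB]) (by simp [val_c])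
    (by decide +kernel)
  simp only [List.map_cons, List.map_nil, List.prod_cons, List.prod_nil, mul_one] at hw
  rw [← hw, map_mul, map_mul]
  exact mul_mem hu (mul_mem (key eA hA val_eA val_hA (by decide +kernel) (by decide +kernel))
    (key eB hB val_eB val_hB (by decide +kernel) (by decide +kernel)))

include hgood hU ht in
/-- **The line**: the involutions of the base trio, `uaK` and `ucK`. -/
theorem line : t * tK D.φ t S0 uaK = tK D.φ t S0 ucK ∧ Commute t (tK D.φ t S0 uaK) := by
  haveI := D.simple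
  have hC := cen_t D ht
  obtain ⟨g, hF, hu, hc⟩ := exists_U D hgood hU
  have k_p0 : imgK p0 k0 = k0 := by decide +kernel
  have k_p1 : imgK p1 k0 = uaK := by decide +kernel
  have k_p2 : imgK p2 k0 = ucK := by decide +kernel
  have m0 := mem_U D hU ht (q := (1805, 175667473023329699678854777731955713)) (by decide +kernel)
    val_p0 val_u (by decide +kernel) hu (TT_u D hgood)
  have m1 := mem_U D hU ht (q := (3675, 296592434314272111916471104909355369)) (by decide +kernel)
    val_p1 val_c (by decide +kernel) hc (TT_c D hgood)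
  have m2 := mem_U D hU ht (q := (3052, 944002183535324198637054212187630121)) (by decide +kernel)
    val_p2 val_u (by decide +kernel) hu (TT_u D hgood)
  rw [k_p0] at m0
  rw [k_p1] at m1
  rw [k_p2] at m2
  refine ⟨?_, VC_comm D (tK_base hC ▸ m0) m1⟩
  set q : Fin 3 → G := ![tK D.φ t S0 k0, tK D.φ t S0 uaK, tK D.φ t S0 ucK] with hq
  have hqU : ∀ i, q i ∈ D.VC g := by intro i; fin_cases i <;> assumption
  have hfix : ∀ T, Val T → imgK T k0 = k0 → imgK T uaK = uaK → imgK T ucK = ucK →
      ∀ i, D.φ (el T) * q i = q i * D.φ (el T) := by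
    intro T hT a b c i
    fin_cases i
    exacts [commute_el hC hT a, commute_el hC hT b, commute_el hC hT c]
  -- the element of order three
  set l := D.φ (el lT) with hl
  have hl3 : el lT ^ 3 = 1 := by
    have := el_word (l := [lT, lT, lT]) (l' := []) (by simp [val_l]) (by simp) (by decide +kernel)
    simpa [pow_succ, mul_assoc] using this
  have hl1 : el lT ≠ 1 := fun e => by
    rw [← el_one] at e
    exact absurd (app_eq_of_el val_l val_idN e (i := 0) (by norm_num)) (by decide +kernel)
  haveI : Fact (Nat.Prime 3) := ⟨Nat.prime_three⟩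
  have hlord : orderOf l = 3 :=
    orderOf_eq_prime (by rw [hl, ← map_pow, hl3, map_one])
      fun e => hl1 (D.φ_injective (e.trans (map_one _).symm))
  have hsix : ∀ i ∈ [3, 4, 13, 14, 15, 20], i < 24 ∧ app lT i = i := by decide +kernel
  let n : Fin 6 → ℕ := ![3, 4, 13, 14, 15, 20]
  have hn : ∀ i, n i < 24 ∧ app lT (n i) = n i := by
    intro i
    fin_cases i <;> exact hsix _ (by simp [n])
  let f : Fin 6 → GolayPt := fun i => pt (n i)
  have hninj : Function.Injective n := by decide
  have hf : Function.Injective f := fun i j e => hninj ((pt_inj (hn i).1 (hn j).1).1 e)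
  obtain ⟨x, hxl, hxz⟩ := exists_central_six (f := f) D.hG D.S D.cent (D.φ_mem_normalizer (el lT))
    hlord hf fun i => by
      rw [D.Φ_φ, el_coe val_l]
      show mkPerm lT (pt (n i)) = pt (n i)
      rw [mkPerm_pt val_l.1 (hn i).1, (hn i).2]
  have hxa : x * D.F 1463 * x⁻¹ = D.c.z := by
    rw [← hxz]
    simp only [f, n, pairV, Matrix.cons_val, idx_pt _ (by norm_num : (3 : ℕ) < 24), idx_pt _ (by norm_num : (4 : ℕ) < 24),
      idx_pt _ (by norm_num : (13 : ℕ) < 24), idx_pt _ (by norm_num : (14 : ℕ) < 24),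
      idx_pt _ (by norm_num : (15 : ℕ) < 24), idx_pt _ (by norm_num : (20 : ℕ) < 24)]
    rw [← D.S.F_xor, ← D.S.F_xor,
      show pairS 3 4 ^^^ pairS 13 14 ^^^ pairS 15 20 = 1463 by decide +kernel]
    rfl
  -- the involution
  set s := D.φ (el sT1) with hs
  have hsa : s * D.F 1463 = D.F 1463 * s := by
    have h := (D.conj_F (el sT1) val_s1.1 (el_coe val_s1).symm (s := 1463) (by decide +kernel)).2
    rw [show img sT1 1463 = 1463 by decide +kernel] at h
    exact mul_inv_eq_iff_eq_mul.1 h
  have hsc : s * D.φ (el cT) = D.φ (el cT) * s := by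
    rw [hs, ← map_mul, ← map_mul, el_comm val_s1 val_c val_c (by decide +kernel)]
  have hsN := D.cent_norm hc (TT_c D hgood) hsc
  have hsU : s ∉ D.VC g := fun e => by
    have := VC_comm D e hu
    rw [hs, Commute, SemiconjBy, ← map_mul, ← map_mul] at this
    exact ne_commute val_s1 val_u (by decide +kernel) (D.φ_injective this)
  have hss : s * s ∈ D.VC g := by
    have := el_word (l := [sT1, sT1]) (l' := []) (by simp [val_s1]) (by simp) (by decide +kernel)
    simp only [List.map_cons, List.map_nil, List.prod_cons, List.prod_nil, mul_one] at this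
    rw [hs, ← map_mul, this, map_one]; exact one_mem _
  have hsl : s * l = l * s := by
    rw [hs, hl, ← map_mul, ← map_mul, el_comm val_s1 val_l val_l (by decide +kernel)]
  have hsq := hfix sT1 val_s1 (by decide +kernel) (by decide +kernel) (by decide +kernel)
  -- witnesses
  have c01 := commute_tK_F D ht val_p0 (z := 1463) (by decide)
  have n01 := not_commute_tK_F D ht val_p1 (z := 3342) (by decide +kernel) (by decide) (by decide)
  have n02 := not_commute_tK_F D ht val_p2 (z := 2145) (by decide +kernel) (by decide) (by decide)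
  have c12 := commute_tK_F D ht val_p1 (z := 3297) (by decide)
  have n12 := not_commute_tK_F D ht val_p2 (z := 777) (by decide +kernel) (by decide) (by decide)
  have n00 := not_commute_tK_F D ht val_p0 (z := 1637) (by decide +kernel) (by decide) (by decide)
  rw [k_p0, show img p0 1463 = 698 by decide +kernel] at c01
  rw [k_p1, show img p1 3342 = 698 by decide +kernel] at n01
  rw [k_p2, show img p2 2145 = 698 by decide +kernel] at n02
  rw [k_p1, show img p1 3297 = 187 by decide +kernel] at c12
  rw [k_p2, show img p2 777 = 187 by decide +kernel] at n12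
  rw [k_p0, show img p0 1637 = 187 by decide +kernel] at n00
  have hFV : ∀ a b, Commute (D.F a) (D.F b) := fun a b => D.h.V_comm (D.F_mem a) (D.F_mem b)
  have hqa : ∀ i, q i ≠ D.F 1463 := by
    have key : ∀ {a : G} {w : ℕ}, ¬ Commute a (D.F w) → a ≠ D.F 1463 :=
      fun {a w} h e => h (e ▸ hFV 1463 w)
    intro i
    fin_cases i
    exacts [key n00, key n01, key n02]
  have e01 : tK D.φ t S0 k0 ≠ tK D.φ t S0 uaK := fun e => n01 (e ▸ c01)
  have e02 : tK D.φ t S0 k0 ≠ tK D.φ t S0 ucK := fun e => n02 (e ▸ c01)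
  have e12 : tK D.φ t S0 uaK ≠ tK D.φ t S0 ucK := fun e => n12 (e ▸ c12)
  have hinj : Function.Injective q := by
    intro i j e
    fin_cases i <;> fin_cases j <;> first
      | rfl
      | exact absurd e e01 | exact absurd e.symm e01 | exact absurd e e02
      | exact absurd e.symm e02 | exact absurd e e12 | exact absurd e.symm e12
  have hqz : ∀ i, IsConj D.c.z (q i) := by
    have hz : ∀ T, Val T → IsConj D.c.z (tK D.φ t S0 (imgK T k0)) := fun T hT => by
      rw [← tK_el hC hT k0, tK_base hC]
      exact ht.conj_z.trans (isConj_iff.2 ⟨_, rfl⟩)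
    have z0 := hz p0 val_p0
    have z1 := hz p1 val_p1
    have z2 := hz p2 val_p2
    rw [k_p0] at z0
    rw [k_p1] at z1
    rw [k_p2] at z2
    intro i
    fin_cases i <;> assumption
  have hmain := mul_eq_of_central D.S (g := g) (fun e => hl1 (D.φ_injective (e.trans (map_one _).symm)))
    hxl hxa (U := D.VC g) rfl hF hqU
    (hfix lT val_l (by decide +kernel) (by decide +kernel) (by decide +kernel)) hqz hqa hinj
    (fun i j _ => ⟨s, hsN, hsU, hss, hsl, hsa, hsq i, hsq j⟩)
  simp only [q, Matrix.cons_val] at hmain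
  rwa [tK_base hC] at hmain

include hgood hU ht in
/-- The line, moved. -/
theorem line_moved {T : ℕ} (hT : Val T) {A B C : ℕ} (hA : imgK T k0 = A) (hB : imgK T uaK = B)
    (hC : imgK T ucK = C) :
    tK D.φ t S0 A * tK D.φ t S0 B = tK D.φ t S0 C ∧ Commute (tK D.φ t S0 A) (tK D.φ t S0 B) := by
  have hCen := cen_t D ht
  obtain ⟨h1, h2⟩ := line D hgood hU ht
  subst hA hB hC
  rw [← tK_el hCen hT k0, ← tK_el hCen hT uaK, ← tK_el hCen hT ucK, tK_base hCen, ← h1]
  exact ⟨by group, conj_commute h2.eq⟩

include hgood hU ht in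
/-- The four facts on lines used by the second relator. -/
theorem line_fields :
    tK D.φ t S0 u3K = tK D.φ t S0 u0K * tK D.φ t S0 u2K ∧
    tK D.φ t S0 udK = tK D.φ t S0 u0K * tK D.φ t S0 uaK ∧
    tK D.φ t S0 ucK = t * tK D.φ t S0 uaK ∧
    Commute (tK D.φ t S0 u0K) t := by
  have hb := (line_moved D hgood hU ht (T := mB) (val_of (by decide +kernel)) (A := u0K) (B := u3K) (C := u2K)
    (by decide +kernel) (by decide +kernel) (by decide +kernel)).1
  have hd := (line_moved D hgood hU ht (T := mD) (val_of (by decide +kernel)) (A := u0K) (B := udK) (C := uaK)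
    (by decide +kernel) (by decide +kernel) (by decide +kernel)).1
  have hm := (line_moved D hgood hU ht (T := mM) (val_of (by decide +kernel)) (A := k0) (B := u0K)
    (C := 2364773852254072883715) (by decide +kernel) (by decide +kernel) (by decide +kernel)).2
  have hsq := tau_sq (cen_t D ht) (kSet u0K)
  change tK D.φ t S0 u0K * tK D.φ t S0 u0K = 1 at hsq
  refine ⟨by rw [← hb, ← mul_assoc, hsq, one_mul], by rw [← hd, ← mul_assoc, hsq, one_mul],
    (line D hgood hU ht).1.symm, ?_⟩
  rw [tK_base (cen_t D ht)] at hm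
  exact hm.symm

theorem el_yT : el Up.yT = gY⁻¹ := by
  have hv : Val Up.yT := val_yT
  have := el_mul hv val_y val_idN (by decide +kernel)
  rw [el_one, el_y] at this
  exact eq_inv_of_mul_eq_one_left this

theorem v_word :
    (gY * gX * gY⁻¹ * gX * gY * gX * gY⁻¹ * gX)⁻¹ = el vT := by
  have h := el_word (l := [Up.yTi, Up.xTi, Up.yT, Up.xTi, Up.yTi, Up.xTi, Up.yT, Up.xTi, vT]) (l' := [])
    (by simp [val_x, val_y, val_yT, val_vT]) (by simp) (by decide +kernel)
  simp only [List.map_cons, List.map_nil, List.prod_cons, List.prod_nil, mul_one, el_x, el_y, el_yT] at h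
  exact inv_eq_of_mul_eq_one_right (by rw [← h]; simp only [mul_assoc])

theorem y_cube : gY * (gY * gY) = 1 := by
  have h := el_word (l := [Up.yTi, Up.yTi, Up.yTi]) (l' := []) (by simp [val_y]) (by simp) (by decide +kernel)
  simpa [el_y] using h

include hgood hU ht in
/-- **The eleventh relator**, as a word in the images of the generators. -/
theorem relOne_word :
    (D.φ gY * ((D.φ gY * D.φ gX * (D.φ gY)⁻¹ * D.φ gX * D.φ gY * D.φ gX * (D.φ gY)⁻¹ * D.φ gX)⁻¹ * t *
      (D.φ gY * D.φ gX * (D.φ gY)⁻¹ * D.φ gX * D.φ gY * D.φ gX * (D.φ gY)⁻¹ * D.φ gX))) ^ 3 = 1 := by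
  have hCen := cen_t D ht
  have hv : D.φ gY * D.φ gX * (D.φ gY)⁻¹ * D.φ gX * D.φ gY * D.φ gX * (D.φ gY)⁻¹ * D.φ gX =
      (D.φ (el vT))⁻¹ := by
    rw [← v_word, map_inv, inv_inv]
    simp only [map_mul, map_inv]
  rw [hv, inv_inv]
  have e0 := tK_el hCen val_vT k0
  rw [tK_base hCen] at e0
  rw [e0, show imgK vT k0 = 2820766686180458828085 by decide +kernel]
  have hy1 := tK_el hCen val_y (T := Up.yTi) 2820766686180458828085
  rw [el_y, show imgK Up.yTi 2820766686180458828085 = 2392528686288031336500 by decide +kernel] at hy1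
  have hy2 := tK_el hCen val_y (T := Up.yTi) 2392528686288031336500
  rw [el_y, show imgK Up.yTi 2392528686288031336500 = 2409764806486908295425 by decide +kernel] at hy2
  obtain ⟨hl, hc⟩ := line_moved D hgood hU ht (T := mR) (val_of (by decide +kernel))
    (A := 2820766686180458828085) (B := 2409764806486908295425) (C := 2392528686288031336500)
    (by decide +kernel) (by decide +kernel) (by decide +kernel)
  have hy3 : D.φ gY * (D.φ gY * D.φ gY) = 1 := by rw [← map_mul, ← map_mul, y_cube, map_one]
  set τ0 := tK D.φ t S0 2820766686180458828085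
  set τ1 := tK D.φ t S0 2392528686288031336500
  set τ2 := tK D.φ t S0 2409764806486908295425
  set Y := D.φ gY
  have hsq : τ1 * τ1 = 1 := tau_sq hCen _
  calc (Y * τ0) ^ 3 = (Y * τ0 * Y⁻¹) * (Y * (Y * τ0 * Y⁻¹) * Y⁻¹) * ((Y * (Y * Y)) * τ0) := by
        simp only [pow_succ, pow_zero, one_mul]; group
    _ = τ1 * τ2 * τ0 := by rw [hy1, hy2, hy3, one_mul]
    _ = τ1 * (τ2 * τ0) := mul_assoc _ _ _
    _ = 1 := by rw [← hc.eq, hl, hsq]

end Cfsg.Agent.H99.J4U
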