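import Cfsg.Agent.H99.J4U.Six

/-!
The central involution of an element of order three with six fixed points, and the rule for three conjugates
of `z` in a conjugate of `V` centralised by such an element.
-/

set_option autoImplicit false
set_option linter.style.haveILetI false

namespace Cfsg.Agent.H99.J4U

open Cfsg Cfsg.Agent.Golay Subgroup H43.JFour H98.JFour H38.JFour H34.MathieuInvol

universe u v

variable {G : Type u} [Group G] [Finite G] {A : Type v} [Group A]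
variable {c : Ctx G A} {M W : Subgroup A} {h : Pkg c M W} {K : Subgroup G} {t : h.V}

/-- Bring an element of order three and its central involution to `P` and `z`, and their conjugate of `V` to
`V`. -/
theorem align (h : Pkg c M W) {g l a x : G} (hl1 : l ≠ 1)
    (haV : g⁻¹ * a * g ∈ h.V) (hxl : x * l * x⁻¹ ∈ c.P)
    (hxa : x * a * x⁻¹ = c.z) :
    ∃ y : G, y * g ∈ normalizer (h.V : Set G) ∧ y * l * y⁻¹ ∈ c.P ∧ y * a * y⁻¹ = c.z := by
  obtain ⟨n, hn, hnz⟩ := h.fusion haV (isConj_iff.2 ⟨g⁻¹ * x⁻¹, by rw [← hxa]; group⟩)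
  have hH : x * g * n ∈ c.H := by
    have e : x * g * n * c.z * (x * g * n)⁻¹ = c.z := by
      calc x * g * n * c.z * (x * g * n)⁻¹ = x * g * (n * c.z * n⁻¹) * (x * g)⁻¹ := by group
        _ = x * a * x⁻¹ := by rw [hnz]; group
        _ = c.z := hxa
    exact c.mem_H.2 (mul_inv_eq_iff_eq_mul.1 e).symm
  set m := n⁻¹ * (g⁻¹ * l * g) * n with hm
  have hmEP : m ∈ c.E ⊔ c.P := by
    have e : m = (x * g * n)⁻¹ * (x * l * x⁻¹) * (x * g * n) := by rw [hm]; group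
    have hq := h.hc.P_le hxl
    rw [e]
    refine (h.hc.pr_ker _ (mul_mem (mul_mem (inv_mem hH) hq) hH)).1 ?_
    rw [h.hc.pr_mul _ (mul_mem (inv_mem hH) hq) _ hH, h.hc.pr_mul _ (inv_mem hH) _ hq, h.hc.pr_P hxl,
      mul_one, h.hc.pr_inv hH, inv_mul_cancel]
  have hm3 : Nat.card (zpowers m) = 3 := by
    haveI : Fact (Nat.Prime 3) := ⟨Nat.prime_three⟩
    rw [Nat.card_zpowers]
    refine orderOf_eq_prime ?_ fun e => hl1 ?_
    · have e3 : l ^ 3 = 1 := by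
        have h3 := h.hc.P_pow hxl
        rw [← pow_three', conj_pow, conj_eq_one_iff] at h3
        exact h3
      rw [show m = (g * n)⁻¹ * l * (g * n)⁻¹⁻¹ by rw [hm]; group, conj_pow, e3]
      group
    · calc l = (g * n) * m * (g * n)⁻¹ := by rw [hm]; group
        _ = 1 := by rw [e]; group
  obtain ⟨e, he, heP⟩ := h.hc.conj_P_of_le (zpowers_le.2 hmEP) hm3
  have heN : e ∈ normalizer (h.V : Set G) := (mem_inf.1 (h.NH_eq ▸ h.E_le_NH he)).2
  refine ⟨e⁻¹ * n⁻¹ * g⁻¹, ?_, ?_, ?_⟩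
  · rw [inv_mul_cancel_right]; exact mul_mem (inv_mem heN) (inv_mem hn)
  · have hmm : m ∈ c.P.map (MulAut.conj e).toMonoidHom := by rw [heP]; exact mem_zpowers m
    rw [Ctx.mem_conj_map] at hmm
    rw [show e⁻¹ * n⁻¹ * g⁻¹ * l * (e⁻¹ * n⁻¹ * g⁻¹)⁻¹ = e⁻¹ * m * e by rw [hm]; group]
    exact hmm
  · calc e⁻¹ * n⁻¹ * g⁻¹ * a * (e⁻¹ * n⁻¹ * g⁻¹)⁻¹ = e⁻¹ * (n⁻¹ * (g⁻¹ * a * g) * n) * e := by group
      _ = e⁻¹ * (c.z * e) := by rw [← hnz]; group
      _ = c.z := by rw [c.mem_H.1 (h.hc.le_H he)]; group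

omit [Finite G] in
theorem conj_commute {y u v : G} (e : u * v = v * u) :
    (y * u * y⁻¹) * (y * v * y⁻¹) = (y * v * y⁻¹) * (y * u * y⁻¹) := by
  calc (y * u * y⁻¹) * (y * v * y⁻¹) = y * (u * v) * y⁻¹ := by group
    _ = y * (v * u) * y⁻¹ := by rw [e]
    _ = _ := by group

/-- Three conjugates of `z` in a conjugate of `V`, centralised by an element of order three. -/
theorem mul_eq_of_central (S : Setting h K t) {g l a x : G} (hl1 : l ≠ 1) (hxl : x * l * x⁻¹ ∈ c.P)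
    (hxa : x * a * x⁻¹ = c.z) {U : Subgroup G} (hU : U = h.V.map (MulAut.conj g).toMonoidHom)
    (haU : a ∈ U) {q : Fin 3 → G} (hqU : ∀ i, q i ∈ U)
    (hql : ∀ i, l * q i = q i * l) (hqz : ∀ i, IsConj c.z (q i)) (hqa : ∀ i, q i ≠ a)
    (hinj : Function.Injective q)
    (hs : ∀ i j, i ≠ j → ∃ s ∈ normalizer (U : Set G), s ∉ U ∧ s * s ∈ U ∧ s * l = l * s ∧ s * a = a * s ∧
      s * q i = q i * s ∧ s * q j = q j * s) :
    q 0 * q 1 = q 2 := by
  subst hU
  have hUV : ∀ {v}, v ∈ h.V.map (MulAut.conj g).toMonoidHom ↔ g⁻¹ * v * g ∈ h.V := Ctx.mem_conj_map _ _ _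
  have hNV : ∀ {v}, v ∈ normalizer ((h.V.map (MulAut.conj g).toMonoidHom : Subgroup G) : Set G) →
      g⁻¹ * v * g ∈ normalizer (h.V : Set G) := by
    intro v hv
    rw [← Subgroup.map_equiv_normalizer_eq, Ctx.mem_conj_map] at hv
    exact hv
  obtain ⟨y, hyN, hyP, hya⟩ := align h hl1 (hUV.1 haU) hxl hxa
  have hyV : ∀ {v}, g⁻¹ * v * g ∈ h.V ↔ y * v * y⁻¹ ∈ h.V := by
    intro v
    rw [mem_normalizer_iff.1 hyN, show y * g * (g⁻¹ * v * g) * (y * g)⁻¹ = y * v * y⁻¹ by group]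
  have hp1 : y * l * y⁻¹ ≠ 1 := fun e => hl1 (conj_eq_one_iff.1 e)
  have hrel := mul_eq_of_E5 S hyP hp1 (q := fun i => y * q i * y⁻¹)
    (fun i => mem_E5_of_comm h hyP hp1 (hyV.1 (hUV.1 (hqU i))) (conj_commute (hql i)))
    (fun i => (hqz i).trans (isConj_iff.2 ⟨y, rfl⟩))
    (fun i e => hqa i (mul_left_cancel (mul_right_cancel (e.trans hya.symm))))
    (fun i j e => hinj (mul_left_cancel (mul_right_cancel e))) ?_
  · refine mul_left_cancel (a := y) (mul_right_cancel (b := y⁻¹) ?_)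
    calc y * (q 0 * q 1) * y⁻¹ = y * q 0 * y⁻¹ * (y * q 1 * y⁻¹) := by group
      _ = y * q 2 * y⁻¹ := hrel
  intro i j hij
  obtain ⟨s, hsN, hsU, hss, hsl, hsa, hsi, hsj⟩ := hs i j hij
  refine ⟨y * s * y⁻¹, ?_, fun e => hsU (hUV.2 (hyV.2 e)), ?_, ?_, ?_, conj_commute hsi, conj_commute hsj⟩
  · rw [show y * s * y⁻¹ = (y * g) * (g⁻¹ * s * g) * (y * g)⁻¹ by group]
    exact mul_mem (mul_mem hyN (hNV hsN)) (inv_mem hyN)
  · rw [show y * s * y⁻¹ * (y * s * y⁻¹) = y * (s * s) * y⁻¹ by group]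
    exact hyV.1 (hUV.1 hss)
  · rw [conj_commute hsl, mul_inv_cancel_right, mul_inv_cancel]
    exact one_mem _
  · rw [← hya, conj_commute hsa]

/-- The central involution of an element of order three of `N(V)` with six fixed points is the product of
the six points. -/
theorem exists_central_six [IsSimpleGroup G] (hG : ¬ IsMulCommutative G) (S : Setting h K t)
    (hcent : ∀ v ∈ h.V, v ≠ 1 → ¬ IsConj c.z v → centralizer ({v} : Set G) ≤ normalizer (h.V : Set G))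
    {l : G} (hlN : l ∈ normalizer (h.V : Set G)) (hl : orderOf l = 3) {f : Fin 6 → GolayPt}
    (hf : Function.Injective f) (hfix : ∀ i, (S.Φ ⟨l, hlN⟩ : Equiv.Perm GolayPt) (f i) = f i) :
    ∃ x : G, x * l * x⁻¹ ∈ c.P ∧
      x * (pairV S (f 0) (f 1) * pairV S (f 2) (f 3) * pairV S (f 4) (f 5)) * x⁻¹ = c.z := by
  haveI : Fact (Nat.Prime 3) := ⟨Nat.prime_three⟩
  obtain ⟨p, hp, hp1⟩ := h.hc.exists_p
  have hl3 : l ^ 3 = 1 := hl ▸ pow_orderOf_eq_one l
  have hl1 : l ≠ 1 := fun e => by rw [e, orderOf_one] at hl; omega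
  have hop : orderOf p = 3 := orderOf_eq_prime (by rw [pow_three']; exact h.hc.P_pow hp) hp1
  obtain ⟨x, hx⟩ := isConj_iff.1 (h.hc.one_class h.hd hG hl hop)
  set e := x⁻¹ * c.z * x with he
  have hcen : ∀ w, l * w = w * l → e * w = w * e := by
    intro w hw
    have hC : x * w * x⁻¹ ∈ c.C := by
      rw [← h.hc.cent_P h.hd hG, mem_centralizer_iff]
      intro q hq
      have hpw : p * (x * w * x⁻¹) = x * w * x⁻¹ * p := by rw [← hx]; exact conj_commute hw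
      rcases h.hc.P_cases hp hp1 hq with rfl | rfl | rfl
      · rw [one_mul, mul_one]
      · exact hpw
      · exact ((show Commute p (x * w * x⁻¹) from hpw).mul_left hpw).eq
    calc e * w = x⁻¹ * (c.z * (x * w * x⁻¹)) * x := by rw [he]; group
      _ = x⁻¹ * (x * w * x⁻¹ * c.z) * x := by rw [c.mem_H.1 hC.1]
      _ = w * e := by rw [he]; group
  have hel : e * l = l * e := hcen l rfl
  have hee : e * e = 1 := by
    rw [he, show x⁻¹ * c.z * x * (x⁻¹ * c.z * x) = x⁻¹ * (c.z * c.z) * x by group, h.hc.z_sq]; group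
  have hd : ∀ i j, i ≠ j → e * pairV S (f i) (f j) = pairV S (f i) (f j) * e := fun i j hij =>
    hcen _ (pairV_fixed S hlN (hf.ne hij) (hfix i) (hfix j))
  have h01 := pairV_rest S (hf.ne (by decide : (0 : Fin 6) ≠ 1))
  have heN : e ∈ normalizer (h.V : Set G) :=
    hcent _ (pairV_mem S _ _) h01.1.2 (fun e' => h01.2 (h.fusion (pairV_mem S _ _) e'))
      (mem_centralizer_singleton_iff.2 (hd 0 1 (by decide)))
  have heV : e ∈ h.V := by
    by_contra heV
    have e1 := (pairV_commute_iff S heN (hf.ne (by decide : (0 : Fin 6) ≠ 1))).1 (hd 0 1 (by decide))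
    have e2 := (pairV_commute_iff S heN (hf.ne (by decide : (0 : Fin 6) ≠ 2))).1 (hd 0 2 (by decide))
    set τ : Equiv.Perm GolayPt := (S.Φ ⟨e, heN⟩ : Equiv.Perm GolayPt) with hτ
    have hlV : l ∉ h.V := fun e' => hl1 (by rwa [pow_three', h.V_sq e', one_mul] at hl3)
    have ht2 : τ * τ = 1 := by
      rw [hτ, ← Subgroup.coe_mul, ← map_mul, (S.Φ_ker _).2 (show e * e ∈ h.V by rw [hee]; exact one_mem _),
        Subgroup.coe_one]
    have hστ : (S.Φ ⟨l, hlN⟩ : Equiv.Perm GolayPt) * τ = τ * (S.Φ ⟨l, hlN⟩ : Equiv.Perm GolayPt) := by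
      rw [hτ, ← Subgroup.coe_mul, ← Subgroup.coe_mul, ← map_mul, ← map_mul]
      exact congrArg (fun x => ((S.Φ x : ↥Cfsg.M24) : Equiv.Perm GolayPt)) (Subtype.ext hel.symm)
    rcases e1 with ⟨a1, b1⟩ | ⟨a1, b1⟩ <;> rcases e2 with ⟨a2, b2⟩ | ⟨a2, b2⟩
    · exact false_of_three_fixed (S.Φ _).2 (S.Φ _).2 (perm_cube S hlN hl3) (perm_ne_one S hlN hlV) ht2
        (perm_ne_one S heN heV) hστ (hf.ne (by decide : (0 : Fin 6) ≠ 1)) (hf.ne (by decide : (0 : Fin 6) ≠ 2))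
        (hf.ne (by decide : (1 : Fin 6) ≠ 2)) (hfix 0) (hfix 1) (hfix 2) a1 b1 b2
    · exact hf.ne (by decide : (0 : Fin 6) ≠ 2) (a1.symm.trans a2)
    · exact hf.ne (by decide : (0 : Fin 6) ≠ 1) (a2.symm.trans a1)
    · exact hf.ne (by decide : (1 : Fin 6) ≠ 2) (a1.symm.trans a2)
  obtain ⟨y, hyN, hyP, hye⟩ := align h hl1 (g := 1) (a := e) (x := x)
    (by simpa using heV) (by rw [hx]; exact hp) (by rw [he]; group)
  rw [mul_one] at hyN
  refine ⟨y, hyP, ?_⟩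
  have hp1' : y * l * y⁻¹ ≠ 1 := fun e' => hl1 (conj_eq_one_iff.1 e')
  have hz := z_eq_six S hyP hp1' (f := fun i => (S.Φ ⟨y, hyN⟩ : Equiv.Perm GolayPt) (f i))
    ((Equiv.injective _).comp hf) (fun i => by
      have e' : (⟨y * l * y⁻¹, pr_P_mem_normalizer h hyP⟩ : ↥(normalizer (h.V : Set G))) =
          ⟨y, hyN⟩ * ⟨l, hlN⟩ * ⟨y, hyN⟩⁻¹ := rfl
      rw [e', map_mul, map_mul, map_inv, Subgroup.coe_mul, Subgroup.coe_mul, Subgroup.coe_inv,
        Equiv.Perm.mul_apply, Equiv.Perm.mul_apply, Equiv.Perm.inv_def, Equiv.symm_apply_apply, hfix i])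
  rw [hz, ← pairV_conj S hyN, ← pairV_conj S hyN, ← pairV_conj S hyN]
  group

end Cfsg.Agent.H99.J4U
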