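import Cfsg.Agent.H34.MathieuInvol
import Cfsg.Agent.H94.M24.Class
import Cfsg.Agent.H38.JFour.Cocode

/-!
Commuting elements of orders 2 and 3 of the group of the code on 24 points, and sums of two pair syndromes.
-/

set_option autoImplicit false
set_option linter.style.haveILetI false

namespace Cfsg.Agent.H99.J4U

open Cfsg Cfsg.Agent.Golay H38.JFour H34.MathieuInvol

/-- An element of order three fixes none or six points. -/
theorem card_fixSet_three {σ : Equiv.Perm GolayPt} (hσ : σ ∈ M24) (h3 : σ ^ 3 = 1) (h1 : σ ≠ 1) :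
    (fixSet σ).card = 0 ∨ (fixSet σ).card = 6 := by
  haveI : Fact (Nat.Prime 3) := ⟨Nat.prime_three⟩
  obtain ⟨r, hr, c, hc, e⟩ := H94.M24.exists_tri_rep hσ (orderOf_eq_prime h3 h1)
  have hn : (fixSet σ).card = H94.M24.nfix σ := rfl
  rw [hn, ← e, H94.M24.nfix_conj]
  simp only [List.mem_cons, List.not_mem_nil, or_false] at hr
  rcases hr with rfl | rfl
  · exact Or.inl H94.M24.nfix_reps.2.2.1
  · exact Or.inr H94.M24.nfix_reps.2.2.2

/-- The fixed points inside an invariant set, counted modulo the prime order. -/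
theorem card_fix_modEq {α : Type*} [Fintype α] [DecidableEq α] {p : ℕ} [Fact p.Prime] {σ : Equiv.Perm α}
    (hσ : σ ^ p = 1) {X : Finset α} (hX : ∀ a, σ a ∈ X ↔ a ∈ X) :
    (X.filter fun a => σ a = a).card ≡ X.card [MOD p] := by
  set τ : Equiv.Perm {a // a ∈ X} := σ.subtypePerm hX with hτ
  have hp : τ ^ p ^ 1 = 1 := by
    rw [pow_one, hτ, Equiv.Perm.subtypePerm_pow]
    ext a
    simp [hσ]
  have h := Equiv.Perm.card_compl_support_modEq hp
  rw [Fintype.card_coe] at h
  have e : τ.supportᶜ.card = (X.filter fun a => σ a = a).card := by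
    refine Finset.card_bij (fun a _ => (a : α)) ?_ ?_ ?_
    · intro a ha
      rw [Finset.mem_compl, Equiv.Perm.mem_support, not_not] at ha
      exact Finset.mem_filter.2 ⟨a.2, congrArg Subtype.val ha⟩
    · intro a _ b _ e; exact Subtype.ext e
    · intro a ha
      obtain ⟨ha1, ha2⟩ := Finset.mem_filter.1 ha
      exact ⟨⟨a, ha1⟩, by rw [Finset.mem_compl, Equiv.Perm.mem_support, not_not]; exact Subtype.ext ha2, rfl⟩
  rwa [e] at h

/-- An involution commuting with an element of order three does not fix three of its fixed points. -/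
theorem false_of_three_fixed {σ τ : Equiv.Perm GolayPt} (hσ : σ ∈ M24) (hτ : τ ∈ M24) (h3 : σ ^ 3 = 1)
    (hσ1 : σ ≠ 1) (h2 : τ * τ = 1) (hτ1 : τ ≠ 1) (hc : σ * τ = τ * σ) {a b d : GolayPt} (hab : a ≠ b)
    (had : a ≠ d) (hbd : b ≠ d) (ha : σ a = a) (hb : σ b = b) (hd : σ d = d) (ha' : τ a = a) (hb' : τ b = b)
    (hd' : τ d = d) : False := by
  classical
  haveI : Fact (Nat.Prime 3) := ⟨Nat.prime_three⟩
  haveI : Fact (Nat.Prime 2) := ⟨Nat.prime_two⟩
  have h6 : (fixSet σ).card = 6 := (card_fixSet_three hσ h3 hσ1).resolve_left fun e => by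
    rw [Finset.card_eq_zero] at e
    exact Finset.notMem_empty a (e ▸ mem_fixSet.2 ha)
  have h8 : (fixSet τ).card = 8 := (fixSet_mem_octads hτ h2 hτ1 ha').2
  have hX : ∀ x, σ x ∈ fixSet τ ↔ x ∈ fixSet τ := by
    intro x
    rw [mem_fixSet, mem_fixSet, ← Equiv.Perm.mul_apply, ← hc, Equiv.Perm.mul_apply, EmbeddingLike.apply_eq_iff_eq]
  have hY : ∀ x, τ x ∈ fixSet σ ↔ x ∈ fixSet σ := by
    intro x
    rw [mem_fixSet, mem_fixSet, ← Equiv.Perm.mul_apply, hc, Equiv.Perm.mul_apply, EmbeddingLike.apply_eq_iff_eq]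
  have e : ((fixSet τ).filter fun x => σ x = x) = (fixSet σ).filter fun x => τ x = x := by
    ext x; simp [mem_fixSet, and_comm]
  have m3 := card_fix_modEq h3 hX
  have m2 := card_fix_modEq (p := 2) (by rw [pow_two]; exact h2) hY
  rw [e, h8] at m3
  rw [h6] at m2
  set n := ((fixSet σ).filter fun x => τ x = x).card with hn
  have hle : n ≤ 6 := h6 ▸ Finset.card_filter_le _ _
  have hge : 3 ≤ n := by
    have hsub : ({a, b, d} : Finset GolayPt) ⊆ (fixSet σ).filter fun x => τ x = x := by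
      intro x hx
      simp only [Finset.mem_insert, Finset.mem_singleton] at hx
      rcases hx with rfl | rfl | rfl <;> simp [mem_fixSet, ha, hb, hd, ha', hb', hd']
    have := Finset.card_le_card hsub
    rwa [Finset.card_insert_of_notMem (by simp [hab, had]), Finset.card_pair hbd] at this
  simp only [Nat.ModEq] at m3 m2
  omega

/-- The pairs with their syndromes. -/
def dTab : List (ℕ × ℕ × ℕ) :=
  (List.range 24).flatMap fun j => (List.range j).map fun i => (i, j, pairS i j)

/-- Two pairs have a common position. -/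
def meets (p q : ℕ × ℕ × ℕ) : Bool :=
  p.1 == q.1 || p.1 == q.2.1 || p.2.1 == q.1 || p.2.1 == q.2.1

lemma dTab_check : (dTab.all fun p => dTab.all fun q =>
    (!(p.2.2 == q.2.2) || (p.1 == q.1 && p.2.1 == q.2.1)) &&
      (meets p q || (!isDuad (p.2.2 ^^^ q.2.2) && !(p.2.2 ^^^ q.2.2 == 0)))) = true := by
  decide +kernel

theorem mem_dTab {i j : ℕ} (hij : i < j) (hj : j < 24) : (i, j, pairS i j) ∈ dTab :=
  List.mem_flatMap.2 ⟨j, List.mem_range.2 hj, List.mem_map.2 ⟨i, List.mem_range.2 hij, rfl⟩⟩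

theorem pairS_comm (i j : ℕ) : pairS i j = pairS j i := by rw [pairS, pairS, Nat.xor_comm]

theorem pairS_inj {i j k l : ℕ} (hij : i ≠ j) (hi : i < 24) (hj : j < 24) (hkl : k ≠ l) (hk : k < 24)
    (hl : l < 24) (e : pairS i j = pairS k l) : (i = k ∧ j = l) ∨ (i = l ∧ j = k) := by
  have h := dTab_check
  simp only [List.all_eq_true, Bool.and_eq_true, Bool.or_eq_true, Bool.not_eq_true', beq_iff_eq,
    beq_eq_false_iff_ne] at h
  rcases lt_or_gt_of_ne hij with h1 | h1 <;> rcases lt_or_gt_of_ne hkl with h2 | h2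
  · have := ((h _ (mem_dTab h1 hj)) _ (mem_dTab h2 hl)).1.resolve_left fun e' => e' e
    exact Or.inl this
  · have := ((h _ (mem_dTab h1 hj)) _ (mem_dTab h2 hk)).1.resolve_left fun e' => e' (e.trans (pairS_comm k l))
    exact Or.inr this
  · have := ((h _ (mem_dTab h1 hi)) _ (mem_dTab h2 hl)).1.resolve_left fun e' => e' ((pairS_comm j i).trans e)
    exact Or.inr ⟨this.2, this.1⟩
  · have := ((h _ (mem_dTab h1 hi)) _ (mem_dTab h2 hk)).1.resolve_left fun e' =>
      e' ((pairS_comm j i).trans (e.trans (pairS_comm k l)))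
    exact Or.inl ⟨this.2, this.1⟩

theorem pairS_disjoint {i j k l : ℕ} (hi : i < 24) (hj : j < 24) (hk : k < 24) (hl : l < 24) (hij : i ≠ j)
    (hkl : k ≠ l) (hik : i ≠ k) (hil : i ≠ l) (hjk : j ≠ k) (hjl : j ≠ l) :
    isDuad (pairS i j ^^^ pairS k l) = false ∧ pairS i j ^^^ pairS k l ≠ 0 := by
  have h := dTab_check
  simp only [List.all_eq_true, Bool.and_eq_true, Bool.or_eq_true, Bool.not_eq_true', beq_eq_false_iff_ne] at h
  rcases lt_or_gt_of_ne hij with h1 | h1 <;> rcases lt_or_gt_of_ne hkl with h2 | h2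
  · exact ((h _ (mem_dTab h1 hj)) _ (mem_dTab h2 hl)).2.resolve_left (by simp [meets, hik, hil, hjk, hjl])
  · rw [pairS_comm k l]
    exact ((h _ (mem_dTab h1 hj)) _ (mem_dTab h2 hk)).2.resolve_left (by simp [meets, hik, hil, hjk, hjl])
  · rw [pairS_comm i j]
    exact ((h _ (mem_dTab h1 hi)) _ (mem_dTab h2 hl)).2.resolve_left (by simp [meets, hik, hil, hjk, hjl])
  · rw [pairS_comm i j, pairS_comm k l]
    exact ((h _ (mem_dTab h1 hi)) _ (mem_dTab h2 hk)).2.resolve_left (by simp [meets, hik, hil, hjk, hjl])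

end Cfsg.Agent.H99.J4U
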