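import Cfsg.Agent.H99.J4U.Perm
import Cfsg.Agent.H38.JFour.Model
import Cfsg.Agent.H43.J4.Main

/-!
An element of order three of `N(V)` with six fixed points: its part in `V`, the product of the six points,
and the rule for three of the fifteen remaining conjugates of `z` there.
-/

set_option autoImplicit false
set_option linter.style.haveILetI false

namespace Cfsg.Agent.H99.J4U

open Cfsg Cfsg.Agent.Golay Subgroup H43.JFour H98.JFour H38.JFour H34.MathieuInvol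

universe u v

variable {G : Type u} [Group G] [Finite G] {A : Type v} [Group A]
variable {c : Ctx G A} {M W : Subgroup A} {h : Pkg c M W} {K : Subgroup G} {t : h.V}

section
variable (S : Setting h K t)

/-- The element of `V` of a pair of points. -/
noncomputable def pairV (a b : GolayPt) : G := S.F (pairS (idx a) (idx b))

theorem pairV_comm (a b : GolayPt) : pairV S a b = pairV S b a := by rw [pairV, pairV, pairS_comm]

theorem pairV_mem (a b : GolayPt) : pairV S a b ∈ h.V := S.F_mem _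

theorem pairV_eq (a b : GolayPt) :
    pairV S a b = ((letI := h.commV; S.D.g a * S.D.g b : h.V) : G) := by
  letI := h.commV
  show ((S.D.φ (pairS (idx a) (idx b)) : h.V) : G) = _
  rw [S.D.φ_pair (idx_lt a) (idx_lt b), pt_idx, pt_idx]

theorem isDuad_pair {a b : GolayPt} (hab : a ≠ b) : isDuad (pairS (idx a) (idx b)) = true := by
  rcases lt_or_gt_of_ne (idx_injective.ne hab) with e | e
  · exact isDuad_iff.2 ⟨_, _, e, idx_lt b, rfl⟩
  · exact isDuad_iff.2 ⟨_, _, e, idx_lt a, pairS_comm _ _⟩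

theorem pairV_rest {a b : GolayPt} (hab : a ≠ b) : pairV S a b ∈ h.rest :=
  (S.F_rest (ev_of_isDuad (isDuad_pair hab)).1).2 (isDuad_pair hab)

theorem pairV_sq (a b : GolayPt) : pairV S a b * pairV S a b = 1 := S.F_sq _

theorem exists_pairV {v : G} (hv : v ∈ h.rest) : ∃ a b, a ≠ b ∧ pairV S a b = v := by
  obtain ⟨s, hs, rfl⟩ := S.exists_F (h.rest_inv.sub hv)
  obtain ⟨i, j, hij, hj, rfl⟩ := isDuad_iff.1 ((S.F_rest hs).1 hv)
  refine ⟨pt i, pt j, fun e => hij.ne ((pt_inj (hij.trans hj) hj).1 e), ?_⟩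
  rw [pairV, idx_pt i (hij.trans hj), idx_pt j hj]

theorem pairV_inj {a b a' b' : GolayPt} (hab : a ≠ b) (hab' : a' ≠ b')
    (e : pairV S a b = pairV S a' b') : (a = a' ∧ b = b') ∨ (a = b' ∧ b = a') := by
  have h1 := S.F_inj (ev_of_isDuad (isDuad_pair hab)).1 (ev_of_isDuad (isDuad_pair hab')).1 e
  rcases pairS_inj (idx_injective.ne hab) (idx_lt a) (idx_lt b) (idx_injective.ne hab') (idx_lt a') (idx_lt b') h1
    with ⟨e1, e2⟩ | ⟨e1, e2⟩
  · exact Or.inl ⟨idx_injective e1, idx_injective e2⟩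
  · exact Or.inr ⟨idx_injective e1, idx_injective e2⟩

/-- Two pairs with a common point. -/
theorem pairV_mul_meet (a b d : GolayPt) : pairV S a b * pairV S a d = pairV S b d := by
  letI := h.commV
  rw [pairV_eq, pairV_eq, pairV_eq, ← Subgroup.coe_mul]
  congr 1
  calc S.D.g a * S.D.g b * (S.D.g a * S.D.g d) = (S.D.g a * S.D.g a) * (S.D.g b * S.D.g d) :=
        mul_mul_mul_comm _ _ _ _
    _ = S.D.g b * S.D.g d := by rw [S.D.sq, one_mul]

/-- Two pairs without a common point. -/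
theorem pairV_disjoint {a b a' b' : GolayPt} (hab : a ≠ b) (hab' : a' ≠ b') (h1 : a ≠ a') (h2 : a ≠ b')
    (h3 : b ≠ a') (h4 : b ≠ b') : IsConj c.z (pairV S a b * pairV S a' b') := by
  obtain ⟨e1, e2⟩ := pairS_disjoint (idx_lt a) (idx_lt b) (idx_lt a') (idx_lt b') (idx_injective.ne hab)
    (idx_injective.ne hab') (idx_injective.ne h1) (idx_injective.ne h2) (idx_injective.ne h3) (idx_injective.ne h4)
  have hev := ev_xor (ev_of_isDuad (isDuad_pair hab)).1 (ev_of_isDuad (isDuad_pair hab')).1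
  rw [pairV, pairV, ← S.F_xor]
  exact (S.F_isConj hev).2 (by simp [isSext, hev, e1, e2])

theorem pairV_conj {n : G} (hn : n ∈ normalizer (h.V : Set G)) (a b : GolayPt) :
    n * pairV S a b * n⁻¹ = pairV S ((S.Φ ⟨n, hn⟩ : Equiv.Perm GolayPt) a)
      ((S.Φ ⟨n, hn⟩ : Equiv.Perm GolayPt) b) := by
  letI := h.commV
  have he := congrArg Subtype.val (S.D.equiv (h.conjV.rangeRestrict ⟨n, hn⟩) a b)
  rw [MonoidHom.coe_rangeRestrict, h.conjV_apply] at he
  rw [pairV_eq, pairV_eq]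
  exact he

theorem pairV_commute_iff {n : G} (hn : n ∈ normalizer (h.V : Set G)) {a b : GolayPt} (hab : a ≠ b) :
    n * pairV S a b = pairV S a b * n ↔
      ((S.Φ ⟨n, hn⟩ : Equiv.Perm GolayPt) a = a ∧ (S.Φ ⟨n, hn⟩ : Equiv.Perm GolayPt) b = b) ∨
      ((S.Φ ⟨n, hn⟩ : Equiv.Perm GolayPt) a = b ∧ (S.Φ ⟨n, hn⟩ : Equiv.Perm GolayPt) b = a) := by
  rw [← mul_inv_eq_iff_eq_mul, pairV_conj S hn]
  refine ⟨fun e => pairV_inj S ((Equiv.injective _).ne hab) hab e, ?_⟩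
  rintro (⟨e1, e2⟩ | ⟨e1, e2⟩) <;> rw [e1, e2]
  exact pairV_comm S b a

theorem perm_cube {n : G} (hn : n ∈ normalizer (h.V : Set G)) (h3 : n ^ 3 = 1) :
    (S.Φ ⟨n, hn⟩ : Equiv.Perm GolayPt) ^ 3 = 1 := by
  have e : (⟨n, hn⟩ : ↥(normalizer (h.V : Set G))) ^ 3 = 1 := Subtype.ext h3
  rw [← Subgroup.coe_pow, ← map_pow, e, map_one, Subgroup.coe_one]

theorem pairV_three {n : G} (hn : n ∈ normalizer (h.V : Set G)) (h3 : n ^ 3 = 1) {a b : GolayPt}
    (hab : a ≠ b) (e : n * pairV S a b = pairV S a b * n) :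
    (S.Φ ⟨n, hn⟩ : Equiv.Perm GolayPt) a = a ∧ (S.Φ ⟨n, hn⟩ : Equiv.Perm GolayPt) b = b := by
  refine ((pairV_commute_iff S hn hab).1 e).resolve_right fun ⟨e1, e2⟩ => hab ?_
  have h4 := DFunLike.congr_fun (perm_cube S hn h3) a
  rw [pow_three, Equiv.Perm.mul_apply, Equiv.Perm.mul_apply, e1, e2, e1, Equiv.Perm.one_apply] at h4
  exact h4.symm

theorem pairV_fixed {n : G} (hn : n ∈ normalizer (h.V : Set G)) {a b : GolayPt} (hab : a ≠ b)
    (ha : (S.Φ ⟨n, hn⟩ : Equiv.Perm GolayPt) a = a) (hb : (S.Φ ⟨n, hn⟩ : Equiv.Perm GolayPt) b = b) :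
    n * pairV S a b = pairV S a b * n :=
  (pairV_commute_iff S hn hab).2 (Or.inl ⟨ha, hb⟩)

theorem perm_ne_one {n : G} (hn : n ∈ normalizer (h.V : Set G)) (hnV : n ∉ h.V) :
    (S.Φ ⟨n, hn⟩ : Equiv.Perm GolayPt) ≠ 1 := fun e =>
  hnV ((S.Φ_ker ⟨n, hn⟩).1 (Subtype.ext e))

end

/-! ### The part of `V` centralised by `P` -/

theorem pr_P_mem_normalizer (h : Pkg c M W) {p : G} (hp : p ∈ c.P) : p ∈ normalizer (h.V : Set G) :=
  (mem_inf.1 (h.NH_eq ▸ h.P_le_NH hp)).2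

theorem P_notMem_V (h : Pkg c M W) {p : G} (hp : p ∈ c.P) (hp1 : p ≠ 1) : p ∉ h.V := fun e => hp1 (by
  have h3 := h.hc.P_pow hp
  rwa [h.V_sq e, one_mul] at h3)

theorem mem_E5_of_comm (h : Pkg c M W) {p v : G} (hp : p ∈ c.P) (hp1 : p ≠ 1) (hv : v ∈ h.V)
    (hpv : p * v = v * p) : v ∈ h.E5 := by
  refine ⟨c.mem_C'.2 ⟨h.V_le_H hv, mem_centralizer_iff.2 fun q hq => ?_⟩, h.pr_V_mem hv, ?_⟩
  · rcases h.hc.P_cases hp hp1 hq with rfl | rfl | rfl
    · rw [one_mul, mul_one]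
    · exact hpv
    · exact ((show Commute p v from hpv).mul_left hpv).eq
  · rw [show (4 : ℕ) = 2 * 2 from rfl, pow_mul, pow_two v, h.V_sq hv, one_pow]

theorem E5_commute (h : Pkg c M W) {p v : G} (hp : p ∈ c.P) (hv : v ∈ h.E5) : p * v = v * p :=
  h.hc.P_central hp hv.1

theorem pr_ne_one (h : Pkg c M W) {w : G} (hw : w ∈ h.E5) (h1 : w ≠ 1) (hz : w ≠ c.z) : c.pr w ≠ 1 :=
  fun e => (h.E5_ker hw e).elim h1 hz

theorem z_mul_rest (h : Pkg c M W) (hF : HasFus c M) {w : G} (hw : w ∈ h.E5) (hwz : IsConj c.z w)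
    (hne : w ≠ c.z) : c.z * w ∈ h.rest := by
  have h1 : w ≠ 1 := fun e => h.hc.z_ne (isConj_one_left.1 (e ▸ hwz))
  have hsplit := h.core_split hF hw (pr_ne_one h hw h1 hne) (one_mem (h.Aw hw))
  rw [one_mul] at hsplit
  refine ⟨⟨mul_mem h.z_mem_V (h.E5_le_V hw), fun e => hne ?_⟩,
    hsplit.1 (h.fusion (h.E5_le_V hw) hwz)⟩
  rw [← h.hc.z_inv]
  exact eq_inv_of_mul_eq_one_right (Set.mem_singleton_iff.1 e)

theorem z_mul_conj (h : Pkg c M W) (hF : HasFus c M) {d : G} (hd : d ∈ h.E5) (hdr : d ∈ h.rest) :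
    IsConj c.z (c.z * d) := by
  have hdz : d ≠ c.z := fun e => h.notMem_rest_z (e ▸ hdr)
  have hsplit := h.core_split hF hd (pr_ne_one h hd (fun e => hdr.1.2 e) hdz) (one_mem (h.Aw hd))
  rw [one_mul] at hsplit
  by_contra hn
  exact hdr.2 (hsplit.2 fun e => hn (h.zOrb_isConj e))

theorem z_ne_mul_rest (h : Pkg c M W) (hF : HasFus c M) {d d' : G} (hd : d ∈ h.E5) (hdr : d ∈ h.rest)
    (hd' : d' ∈ h.rest) : c.z ≠ d * d' := by
  intro e
  refine hd'.2 (h.fusion (h.rest_inv.sub hd') ?_)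
  have e1 : c.z * d = d' := by
    rw [c.mem_H.1 hd.1.1, e, ← mul_assoc, h.E5_sq hd, one_mul]
  exact e1 ▸ z_mul_conj h hF hd hdr

/-- Six distinct fixed points of an element of `P` give `z`. -/
theorem z_eq_six (S : Setting h K t) {p : G} (hp : p ∈ c.P) (hp1 : p ≠ 1) {f : Fin 6 → GolayPt}
    (hf : Function.Injective f)
    (hfix : ∀ i, (S.Φ ⟨p, pr_P_mem_normalizer h hp⟩ : Equiv.Perm GolayPt) (f i) = f i) :
    c.z = pairV S (f 0) (f 1) * pairV S (f 2) (f 3) * pairV S (f 4) (f 5) := by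
  classical
  have hpN := pr_P_mem_normalizer h hp
  set σ : Equiv.Perm GolayPt := (S.Φ ⟨p, hpN⟩ : Equiv.Perm GolayPt) with hσ
  have h3 : p ^ 3 = 1 := by rw [pow_three']; exact h.hc.P_pow hp
  have hne : ∀ {i j : Fin 6}, i ≠ j → f i ≠ f j := fun hij => hf.ne hij
  have hmem : ∀ {a b}, a ≠ b → σ a = a → σ b = b → pairV S a b ∈ h.E5 := fun hab ha hb =>
    mem_E5_of_comm h hp hp1 (pairV_mem S _ _) (pairV_fixed S hpN hab ha hb)
  have hA := hmem (hne (by decide : (0 : Fin 6) ≠ 1)) (hfix 0) (hfix 1)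
  have hB := hmem (hne (by decide : (2 : Fin 6) ≠ 3)) (hfix 2) (hfix 3)
  have hAr := pairV_rest S (hne (by decide : (0 : Fin 6) ≠ 1))
  have hBr := pairV_rest S (hne (by decide : (2 : Fin 6) ≠ 3))
  set A' := pairV S (f 0) (f 1) with hA'
  set B' := pairV S (f 2) (f 3) with hB'
  set x := A' * B' with hx
  have hxz : IsConj c.z x :=
    pairV_disjoint S (hne (by decide)) (hne (by decide)) (hne (by decide)) (hne (by decide)) (hne (by decide))
      (hne (by decide))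
  have hxne : x ≠ c.z := fun e => z_ne_mul_rest h S.hF hA hAr hBr e.symm
  obtain ⟨a, b, hab, hP⟩ := exists_pairV S (z_mul_rest h S.hF (mul_mem hA hB) hxz hxne)
  have hzx : c.z * x = x * c.z := c.mem_H.1 (mul_mem hA hB).1.1
  have hz : c.z = x * pairV S a b := by
    rw [hP, hzx, ← mul_assoc, h.E5_sq (mul_mem hA hB), one_mul]
  obtain ⟨ha, hb⟩ := pairV_three S hpN h3 hab
    (E5_commute h hp (by rw [hP]; exact mul_mem h.z_mem_E5 (mul_mem hA hB)))
  -- the further pair avoids the first four points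
  have havoid : ∀ {a b}, a ≠ b → σ a = a → σ b = b → c.z = x * pairV S a b →
      a ≠ f 0 ∧ a ≠ f 1 ∧ a ≠ f 2 ∧ a ≠ f 3 := by
    intro a b hab ha hb hz
    have key : ∀ (i j : Fin 6) (Y : G), i ≠ j → Y ∈ h.E5 → Y ∈ h.rest →
        x = pairV S (f i) (f j) * Y → a ≠ f i := by
      intro i j Y hij hY hYr hxY e
      have hYV := h.E5_le_V hY
      rw [e] at hz
      have e1 : c.z = Y * pairV S (f j) b := by
        rw [hz, hxY, h.V_comm (pairV_mem S _ _) hYV, mul_assoc, pairV_mul_meet]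
      by_cases hjb : f j = b
      · rw [← hjb] at hz
        refine h.notMem_rest_z ?_
        rw [hz, hxY, h.V_comm (pairV_mem S _ _) hYV, mul_assoc, pairV_sq, mul_one]
        exact hYr
      · exact z_ne_mul_rest h S.hF hY hYr (pairV_rest S hjb) e1
    have hc : A' * B' = B' * A' := h.V_comm (pairV_mem S _ _) (pairV_mem S _ _)
    exact ⟨key 0 1 B' (by decide) hB hBr rfl, key 1 0 B' (by decide) hB hBr (by rw [pairV_comm S (f 1)]),
      key 2 3 A' (by decide) hA hAr hc, key 3 2 A' (by decide) hA hAr (by rw [pairV_comm S (f 3)]; exact hc)⟩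
  obtain ⟨a0, a1, a2, a3⟩ := havoid hab ha hb hz
  obtain ⟨b0, b1, b2, b3⟩ := havoid hab.symm hb ha (by rw [pairV_comm S b a]; exact hz)
  have h6 : (fixSet σ).card = 6 := (card_fixSet_three (S.Φ _).2 (perm_cube S hpN h3)
    (perm_ne_one S hpN (P_notMem_V h hp hp1))).resolve_left fun e => by
      rw [Finset.card_eq_zero] at e
      exact Finset.notMem_empty a (e ▸ mem_fixSet.2 ha)
  have hall : Finset.univ.image f = fixSet σ := Finset.eq_of_subset_of_card_le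
    (fun y hy => by
      obtain ⟨i, -, rfl⟩ := Finset.mem_image.1 hy
      exact mem_fixSet.2 (hfix i))
    (by rw [Finset.card_image_of_injective _ hf, h6]; rfl)
  have hin : ∀ {y}, σ y = y → y ≠ f 0 → y ≠ f 1 → y ≠ f 2 → y ≠ f 3 → y = f 4 ∨ y = f 5 := by
    intro y hy y0 y1 y2 y3
    have := hall ▸ mem_fixSet.2 hy
    obtain ⟨i, -, rfl⟩ := Finset.mem_image.1 this
    fin_cases i <;> first | exact Or.inl rfl | exact Or.inr rfl | contradiction
  rcases hin ha a0 a1 a2 a3 with ea | ea <;> rcases hin hb b0 b1 b2 b3 with eb | eb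
  · exact absurd (ea.trans eb.symm) hab
  · rw [← ea, ← eb]; exact hz
  · rw [← ea, ← eb, pairV_comm S b a]; exact hz
  · exact absurd (ea.trans eb.symm) hab

/-- The rule for three conjugates of `z` in the part of `V` centralised by `P`. -/
theorem mul_eq_of_E5 (S : Setting h K t) {p : G} (hp : p ∈ c.P) (hp1 : p ≠ 1) {q : Fin 3 → G}
    (hq : ∀ i, q i ∈ h.E5) (hqz : ∀ i, IsConj c.z (q i)) (hne : ∀ i, q i ≠ c.z)
    (hinj : Function.Injective q)
    (hs : ∀ i j, i ≠ j → ∃ s ∈ normalizer (h.V : Set G), s ∉ h.V ∧ s * s ∈ h.V ∧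
      s * p * s⁻¹ * p⁻¹ ∈ h.V ∧ s * c.z = c.z * s ∧ s * q i = q i * s ∧ s * q j = q j * s) :
    q 0 * q 1 = q 2 := by
  classical
  have hpN := pr_P_mem_normalizer h hp
  have h3 : p ^ 3 = 1 := by rw [pow_three']; exact h.hc.P_pow hp
  have hσ3 := perm_cube S hpN h3
  have hσ1 := perm_ne_one S hpN (P_notMem_V h hp hp1)
  choose a b hab hP using fun i => exists_pairV S (z_mul_rest h S.hF (hq i) (hqz i) (hne i))
  have hfix : ∀ i, (S.Φ ⟨p, hpN⟩ : Equiv.Perm GolayPt) (a i) = a i ∧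
      (S.Φ ⟨p, hpN⟩ : Equiv.Perm GolayPt) (b i) = b i := fun i =>
    pairV_three S hpN h3 (hab i) (E5_commute h hp (by rw [hP]; exact mul_mem h.z_mem_E5 (hq i)))
  have hqe : ∀ i, q i = c.z * pairV S (a i) (b i) := fun i => by
    rw [hP, ← mul_assoc, h.hc.z_sq, one_mul]
  -- no two of the pairs meet
  have hdis : ∀ i j, i ≠ j → a i ≠ a j ∧ a i ≠ b j ∧ b i ≠ a j ∧ b i ≠ b j := by
    intro i j hij
    obtain ⟨s, hsN, hsV, hss, hsp, hsz, hsi, hsj⟩ := hs i j hij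
    set τ : Equiv.Perm GolayPt := (S.Φ ⟨s, hsN⟩ : Equiv.Perm GolayPt) with hτ
    have hcomm : ∀ k, s * q k = q k * s → s * pairV S (a k) (b k) = pairV S (a k) (b k) * s := by
      intro k e
      rw [hP]
      exact ((show Commute s c.z from hsz).mul_right e).eq
    have ht2 : τ * τ = 1 := by
      rw [hτ, ← Subgroup.coe_mul, ← map_mul, (S.Φ_ker _).2 hss, Subgroup.coe_one]
    have hστ : (S.Φ ⟨p, hpN⟩ : Equiv.Perm GolayPt) * τ = τ * (S.Φ ⟨p, hpN⟩ : Equiv.Perm GolayPt) := by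
      have e := (S.Φ_ker (⟨s, hsN⟩ * ⟨p, hpN⟩ * ⟨s, hsN⟩⁻¹ * ⟨p, hpN⟩⁻¹)).2 hsp
      rw [map_mul, map_mul, map_mul, map_inv, map_inv, mul_inv_eq_one, mul_inv_eq_iff_eq_mul] at e
      exact (congrArg Subtype.val e).symm
    have hτ1 : τ ≠ 1 := perm_ne_one S hsN hsV
    have h1 := (pairV_commute_iff S hsN (hab i)).1 (hcomm i hsi)
    have h2 := (pairV_commute_iff S hsN (hab j)).1 (hcomm j hsj)
    have hdiff : ¬ ((a i = a j ∧ b i = b j) ∨ (a i = b j ∧ b i = a j)) := by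
      rintro (⟨e1, e2⟩ | ⟨e1, e2⟩) <;> refine hij (hinj ?_) <;> rw [hqe i, hqe j, e1, e2]
      rw [pairV_comm S (b j)]
    -- two pairs meeting in one point
    have hmeet : ∀ {x y w : GolayPt}, x ≠ y → x ≠ w → y ≠ w →
        (S.Φ ⟨p, hpN⟩ : Equiv.Perm GolayPt) x = x → (S.Φ ⟨p, hpN⟩ : Equiv.Perm GolayPt) y = y →
        (S.Φ ⟨p, hpN⟩ : Equiv.Perm GolayPt) w = w → (τ x = x ∧ τ y = y) ∨ (τ x = y ∧ τ y = x) →
        (τ x = x ∧ τ w = w) ∨ (τ x = w ∧ τ w = x) → False := by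
      intro x y w hxy hxw hyw fx fy fw e1 e2
      rcases e1 with ⟨e1, e1'⟩ | ⟨e1, e1'⟩ <;> rcases e2 with ⟨e2, e2'⟩ | ⟨e2, e2'⟩
      · exact false_of_three_fixed (S.Φ _).2 (S.Φ _).2 hσ3 hσ1 ht2 hτ1 hστ hxy hxw hyw fx fy fw e1 e1' e2'
      · exact hxw (e1.symm.trans e2)
      · exact hxy (e2.symm.trans e1)
      · exact hyw (e1.symm.trans e2)
    refine ⟨fun e => ?_, fun e => ?_, fun e => ?_, fun e => ?_⟩
    · refine hmeet (hab i) (e ▸ hab j) (fun e' => hdiff (Or.inl ⟨e, e'⟩)) (hfix i).1 (hfix i).2 (hfix j).2 h1 ?_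
      rwa [e]
    · refine hmeet (hab i) (e ▸ (hab j).symm) (fun e' => hdiff (Or.inr ⟨e, e'⟩)) (hfix i).1 (hfix i).2
        (hfix j).1 h1 ?_
      rw [e]; exact h2.imp And.symm And.symm
    · refine hmeet (hab i).symm (e ▸ hab j) (fun e' => hdiff (Or.inr ⟨e', e⟩)) (hfix i).2 (hfix i).1 (hfix j).2
        (h1.imp And.symm And.symm) ?_
      rwa [e]
    · refine hmeet (hab i).symm (e ▸ (hab j).symm) (fun e' => hdiff (Or.inl ⟨e', e⟩)) (hfix i).2 (hfix i).1
        (hfix j).1 (h1.imp And.symm And.symm) ?_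
      rw [e]; exact h2.imp And.symm And.symm
  let f : Fin 6 → GolayPt := ![a 0, b 0, a 1, b 1, a 2, b 2]
  have hf : Function.Injective f := by
    obtain ⟨p1, p2, p3, p4⟩ := hdis 0 1 (by decide)
    obtain ⟨q1, q2, q3, q4⟩ := hdis 0 2 (by decide)
    obtain ⟨r1, r2, r3, r4⟩ := hdis 1 2 (by decide)
    intro x y e
    fin_cases x <;> fin_cases y <;> first | rfl | (exfalso; simp [f] at e; first
      | exact hab _ e | exact hab _ e.symm | exact p1 e | exact p1 e.symm | exact p2 e | exact p2 e.symm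
      | exact p3 e | exact p3 e.symm | exact p4 e | exact p4 e.symm | exact q1 e | exact q1 e.symm
      | exact q2 e | exact q2 e.symm | exact q3 e | exact q3 e.symm | exact q4 e | exact q4 e.symm
      | exact r1 e | exact r1 e.symm | exact r2 e | exact r2 e.symm | exact r3 e | exact r3 e.symm
      | exact r4 e | exact r4 e.symm)
  have hff : ∀ i, (S.Φ ⟨p, hpN⟩ : Equiv.Perm GolayPt) (f i) = f i := by
    intro i; fin_cases i <;> simp [f, hfix]
  have hz := z_eq_six S hp hp1 hf hff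
  change c.z = pairV S (a 0) (b 0) * pairV S (a 1) (b 1) * pairV S (a 2) (b 2) at hz
  have hzc : ∀ k, c.z * pairV S (a k) (b k) = pairV S (a k) (b k) * c.z := fun k =>
    h.V_comm h.z_mem_V (pairV_mem S _ _)
  have e01 : pairV S (a 0) (b 0) * pairV S (a 1) (b 1) = c.z * pairV S (a 2) (b 2) := by
    rw [hz, mul_assoc _ (pairV S (a 2) (b 2)), pairV_sq, mul_one]
  rw [hqe 0, hqe 1, hqe 2, hzc 0, mul_assoc, ← mul_assoc c.z, h.hc.z_sq, one_mul, e01]

end Cfsg.Agent.H99.J4U
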