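import Cfsg.Agent.H99.J4U.RelOne
import Cfsg.Agent.H69.J4U.Final

/-!
The relators of presented J4 in a group of Janko-four type, from the standing data and the conjugates of `V`
at the sextets.
-/

set_option autoImplicit false
set_option maxRecDepth 100000
set_option linter.style.haveILetI false

namespace Cfsg.Agent.H99.J4U

open Cfsg Cfsg.Agent.Golay Subgroup H38.JFour H93.J4U H56.J4 H56.J4U
open H56.J4.Up (k0)
open H48.J4U (HexHyp IsTrioInv conjV)

universe u

variable {G : Type u} [Group G] [Finite G] (D : Uni G)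

/-- The seven relators of `M24` hold for `gX`, `gY`. -/
theorem rels_M24 {r : FreeGroup Cfsg.Spor.J4.Gen} (hr : r ∈ Cfsg.Spor.J4.extra.take 7) :
    FreeGroup.lift (H69.J4U.genFun gX gY 1) r = 1 := by
  apply phi_injective
  rw [map_one]
  have h := extra_rel (List.take_subset _ _ hr)
  simp only [Cfsg.Spor.J4.extra, List.take_succ_cons, List.take_zero, List.mem_cons, List.not_mem_nil,
    or_false] at hr
  rcases hr with rfl | rfl | rfl | rfl | rfl | rfl | rfl <;>
  · simp only [map_mul, map_pow, map_inv] at h ⊢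
    simp only [FreeGroup.lift_apply_of, H69.J4U.genFun, phi_gX, phi_gY]
    exact h

variable (hgood : ∀ σ : ↥Cfsg.M24, σ * σ = 1 → (∀ p, (σ : Equiv.Perm GolayPt) p ≠ p) →
  ¬ IsConj D.z (D.φ σ))
variable (hU : HexHyp D.V D.F D.φ) {t : G} (ht : IsTrioInv D.z D.V D.F D.φ t)

include hgood hU ht in
/-- **All relators of presented J4** hold for the images of `x`, `y` and the involution of the base trio. -/
theorem rels_of_relTwo
    (h12 : ((D.φ gY * D.φ gX * D.φ gY * D.φ gX * D.φ gY * D.φ gX * D.φ gY) ^ 3 * t *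
      (((D.φ gX * D.φ gY) ^ 3 * D.φ gY * (D.φ gX * D.φ gY) ^ 6 * D.φ gY)⁻¹ * t *
        ((D.φ gX * D.φ gY) ^ 3 * D.φ gY * (D.φ gX * D.φ gY) ^ 6 * D.φ gY))) ^ 2 = 1) {r : FreeGroup Cfsg.Spor.J4.Gen} (hr : r ∈ Cfsg.Spor.J4.extra) :
    FreeGroup.lift (H69.J4U.genFun (D.φ gX) (D.φ gY) t) r = 1 := by
  have hcomp : ∀ r ∈ Cfsg.Spor.J4.extra.take 7,
      FreeGroup.lift (H69.J4U.genFun (D.φ gX) (D.φ gY) t) r = 1 := fun r hr => by
    have h := congrArg D.φ (rels_M24 hr)
    rw [map_one] at h
    simp only [Cfsg.Spor.J4.extra, List.take_succ_cons, List.take_zero, List.mem_cons, List.not_mem_nil,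
      or_false] at hr
    rcases hr with rfl | rfl | rfl | rfl | rfl | rfl | rfl <;>
    · simp only [map_mul, map_pow, map_inv, FreeGroup.lift_apply_of, H69.J4U.genFun] at h ⊢
      exact h
  have htt := ht.isT.sq
  have hsame : ∀ {a b : G}, Commute a t → b = a → t⁻¹ * b⁻¹ * t * b = 1 := by
    rintro a b h rfl
    calc t⁻¹ * b⁻¹ * t * b = t⁻¹ * b⁻¹ * (t * b) := by group
      _ = t⁻¹ * b⁻¹ * (b * t) := by rw [h.eq]
      _ = 1 := by group
  have hX : Commute (D.φ gX) t :=
    H48.J4U.gX_eq ▸ ht.stab _ (Subgroup.subset_closure (Set.mem_insert _ _))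
  have hW : Commute (D.φ gW) t :=
    H48.J4U.gW_eq ▸ ht.stab _ (Subgroup.subset_closure (Set.mem_insert_of_mem _ rfl))
  have h11 := relOne_word D hgood hU ht
  rw [← List.take_append_drop 7 Cfsg.Spor.J4.extra, List.mem_append] at hr
  rcases hr with hr | hr
  · exact hcomp r hr
  simp only [Cfsg.Spor.J4.extra, List.drop_succ_cons, List.drop_zero, List.mem_cons, List.not_mem_nil,
    or_false] at hr
  rcases hr with rfl | rfl | rfl | rfl | rfl <;>
    simp only [map_mul, map_pow, map_inv, FreeGroup.lift_apply_of, H69.J4U.genFun]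
  · rw [pow_two]; exact htt
  · exact hsame hW (by rw [gW_word]; simp only [map_mul, map_pow, map_inv])
  · exact hsame hX rfl
  · exact h11
  · exact h12

end Cfsg.Agent.H99.J4U
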